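import Cfsg.Agent.Linear.Mitchell.Centraliser.Recognise
import Cfsg.Agent.Linear.Mitchell.Eigen
import Cfsg.Agent.S2916

/-!
The centraliser `GL₂(3)` does not occur: neither `PSL₃(3)` nor `M₁₁` embeds in this way.
-/

set_option autoImplicit false

namespace Cfsg.Agent.Linear.Mitchell

open scoped MatrixGroups Matrix commutatorElement
open Cfsg.Geo Matrix

variable {F : Type*} [Field F] {P : Subgroup (GL (Fin 3) F)}

/-- Elements equal modulo scalars have the same commutators. -/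
theorem commutator_eq_of_px {a a' b b' : P} (ha : px P a = px P a') (hb : px P b = px P b') :
    ⁅a, b⁆ = ⁅a', b'⁆ := by
  have hcen : ∀ z : P, px P z = 1 → ∀ g : P, z * g = g * z := fun z hz g => by
    obtain ⟨c, hc⟩ := px_eq_one.mp hz
    refine Subtype.ext (Units.ext ?_)
    simp [hc]
  have key : ∀ u z w : P, px P z = 1 → ⁅u * z, w⁆ = ⁅u, w⁆ ∧ ⁅w, u * z⁆ = ⁅w, u⁆ := fun u z w hz => by
    have hc := hcen z hz
    constructor
    · rw [commutatorElement_def, commutatorElement_def, _root_.mul_inv_rev,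
        show u * z * w * (z⁻¹ * u⁻¹) * w⁻¹ = u * (z * w) * z⁻¹ * u⁻¹ * w⁻¹ by group, hc w]
      group
    · rw [commutatorElement_def, commutatorElement_def, _root_.mul_inv_rev,
        show w * (u * z) * w⁻¹ * (z⁻¹ * u⁻¹) = w * u * (z * w⁻¹) * z⁻¹ * u⁻¹ by group, hc w⁻¹]
      group
  have h1 : px P (a⁻¹ * a') = 1 := by rw [map_mul, map_inv, ha, inv_mul_cancel]
  have h2 : px P (b⁻¹ * b') = 1 := by rw [map_mul, map_inv, hb, inv_mul_cancel]
  rw [← (key a _ b h1).1, mul_inv_cancel_left, ← (key b _ a' h2).2, mul_inv_cancel_left]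

variable [Finite F]

namespace InvSetting

variable {p : ℕ} (hI : InvSetting p P)
include hI

/-- An element `x` of odd prime order `r ≠ p` modulo scalars, moved by `t` to an element commuting with it,
has its image centralised by the sixth power of `t`. -/
theorem px_commute_pow_six (hp3 : p ≠ 3) {r : ℕ} (hr : r.Prime) (hr2 : r ≠ 2) (hpr : p ≠ r) {x t : P}
    (hx1 : px P x ≠ 1) (hx : px P x ^ r = 1) (hc : (t * x * t⁻¹) * x = x * (t * x * t⁻¹)) :
    px P t ^ 6 * px P x = px P x * px P t ^ 6 := by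
  haveI := hI.char
  obtain ⟨c, hxc⟩ := px_eq_one.mp (show px P (x ^ r) = 1 by rw [map_pow, hx])
  have hc3 := hI.toSetting.scalar_cube (x ^ r).2 hxc
  have hxn : (x : GL (Fin 3) F) ^ (r * 3) = 1 := by
    refine Units.ext ?_
    rw [pow_mul, Units.val_pow_eq_pow_val, ← Subgroup.coe_pow, hxc, smul_pow, one_pow, hc3, one_smul, Units.val_one]
  have hn : ((r * 3 : ℕ) : F) ≠ 0 := fun h0 => by
    rcases (hI.prime.dvd_mul).mp ((CharP.cast_eq_zero_iff F p _).mp h0) with h' | h'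
    · exact hpr ((Nat.prime_dvd_prime_iff_eq hI.prime hr).mp h')
    · exact hp3 ((Nat.prime_dvd_prime_iff_eq hI.prime Nat.prime_three).mp h')
  have hsc : ∀ c : F, ((x : GL (Fin 3) F) : Matrix (Fin 3) (Fin 3) F) ≠ c • 1 := fun c hc => by
    exact hx1 (px_eq_one.mpr ⟨c, hc⟩)
  have hD := distinctEigen_of_odd hI.two hI.hom x.2
    ((hr.odd_of_ne_two hr2).mul (by decide)) hn hxn hsc
  have h6 := hD.commute_pow_six (t := (t : GL (Fin 3) F)) (by simpa using congrArg Subtype.val hc)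
  rw [← map_pow, ← map_mul, ← map_mul]
  exact congrArg _ (Subtype.ext (by simpa using h6))

/-- The form of the previous lemma used for a cyclic normalised subgroup. -/
theorem commute_pow_six_of_pow {r : ℕ} (hp3 : p ≠ 3) (hr : r.Prime) (hr2 : r ≠ 2) (hpr : p ≠ r) {a b : PX P}
    (ha1 : a ≠ 1) (ha : a ^ r = 1) {k : ℕ} (hab : b * a * b⁻¹ = a ^ k) : b ^ 6 * a = a * b ^ 6 := by
  obtain ⟨x, rfl⟩ := px_surjective a
  obtain ⟨t, rfl⟩ := px_surjective b
  refine hI.px_commute_pow_six hp3 hr hr2 hpr ha1 ha ?_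
  have he : px P (t * x * t⁻¹) = px P (x ^ k) := by rw [map_mul, map_mul, map_inv, hab, map_pow]
  rw [← commutatorElement_eq_one_iff_mul_comm, commutator_eq_of_px he (rfl : px P x = px P x),
    commutatorElement_eq_one_iff_mul_comm, ← pow_succ, ← pow_succ']

omit [Finite F] in
/-- A commutator of lifts which is inverted by conjugation is trivial. -/
theorem commute_of_inverted {x y d : P} (hxy : px P x * px P y = px P y * px P x)
    (hdx : px P d * px P x * (px P d)⁻¹ = px P x) (hdy : px P d * px P y * (px P d)⁻¹ = (px P y)⁻¹) :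
    x * y = y * x := by
  rw [← commutatorElement_eq_one_iff_mul_comm]
  have hz : px P ⁅x, y⁆ = 1 := by rw [map_commutatorElement, commutatorElement_eq_one_iff_mul_comm, hxy]
  obtain ⟨c, hc⟩ := px_eq_one.mp hz
  have hcen : ∀ g : P, ⁅x, y⁆ * g = g * ⁅x, y⁆ := fun g => Subtype.ext (Units.ext (by simp [hc]))
  have h1 : ⁅x, y⁆ = ⁅x, y⁻¹⁆ := by
    conv_lhs => rw [← mul_inv_cancel_right ⁅x, y⁆ d, hcen d,
      show d * ⁅x, y⁆ * d⁻¹ = ⁅d * x * d⁻¹, d * y * d⁻¹⁆ by simp only [commutatorElement_def]; group]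
    exact commutator_eq_of_px (by rw [map_mul, map_mul, map_inv, hdx])
      (by rw [map_mul, map_mul, map_inv, hdy, map_inv])
  have h2 : ⁅x, y⁆ * ⁅x, y⁆ = 1 := by
    nth_rewrite 2 [h1]
    rw [show ⁅x, y⁻¹⁆ = y⁻¹ * ⁅x, y⁆⁻¹ * y by simp only [commutatorElement_def]; group,
      show ⁅x, y⁆ * (y⁻¹ * ⁅x, y⁆⁻¹ * y) = (⁅x, y⁆ * y⁻¹) * ⁅x, y⁆⁻¹ * y by group, hcen]
    group
  have h3 : ⁅x, y⁆ ^ 3 = 1 := by
    refine Subtype.ext (Units.ext ?_)
    rw [Subgroup.coe_pow, Units.val_pow_eq_pow_val, hc, smul_pow, one_pow, hI.toSetting.scalar_cube ⁅x, y⁆.2 hc,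
      one_smul]
    rfl
  rw [pow_succ, sq, h2, one_mul] at h3
  exact h3

theorem ne_three_of_card_48 (hC : Nat.card (Subgroup.centralizer ({hI.tX} : Set (PX P))) = 48) : p ≠ 3 :=
  fun h3 => hI.not_dvd_card (by rw [hI.card_plane, hC, h3]; norm_num)

/-- `PX` is not `PSL₃(3)`. -/
theorem not_iso_psl_three (hp3 : p ≠ 3) {K : Type} [Field K] [Fintype K] (hK : Fintype.card K = 3)
    (e : PX P ≃* Matrix.ProjectiveSpecialLinearGroup (Fin 3) K) : False := by
  classical
  haveI : Fact (Nat.Prime 3) := ⟨Nat.prime_three⟩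
  haveI : CharP K 3 := charP_of_card_eq_prime hK
  have h30 : (3 : K) = 0 := by exact_mod_cast CharP.cast_eq_zero K 3
  have h2K : (2 : K) ≠ 0 := fun h => one_ne_zero (show (1 : K) = 0 by linear_combination h30 - h)
  let A : Matrix.SpecialLinearGroup (Fin 3) K := ⟨!![1, 0, 1; 0, 1, 0; 0, 0, 1], by simp [Matrix.det_fin_three]⟩
  let B : Matrix.SpecialLinearGroup (Fin 3) K := ⟨!![1, 0, 0; 0, 1, 1; 0, 0, 1], by simp [Matrix.det_fin_three]⟩
  let T : Matrix.SpecialLinearGroup (Fin 3) K := ⟨!![0, -1, 0; 1, 0, 0; 0, 0, 1], by simp [Matrix.det_fin_three]⟩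
  let D : Matrix.SpecialLinearGroup (Fin 3) K := ⟨!![-1, 0, 0; 0, 1, 0; 0, 0, -1], by simp [Matrix.det_fin_three]⟩
  have hAv : (A : Matrix (Fin 3) (Fin 3) K) = !![1, 0, 1; 0, 1, 0; 0, 0, 1] := rfl
  have hBv : (B : Matrix (Fin 3) (Fin 3) K) = !![1, 0, 0; 0, 1, 1; 0, 0, 1] := rfl
  have hTv : (T : Matrix (Fin 3) (Fin 3) K) = !![0, -1, 0; 1, 0, 0; 0, 0, 1] := rfl
  have hDv : (D : Matrix (Fin 3) (Fin 3) K) = !![-1, 0, 0; 0, 1, 0; 0, 0, -1] := rfl
  clear_value A B T D
  let q : Matrix.SpecialLinearGroup (Fin 3) K →* PX P := e.symm.toMonoidHom.comp (QuotientGroup.mk' _)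
  have hA3 : A ^ 3 = 1 := by
    rw [pow_succ, sq]
    apply Subtype.ext
    rw [Matrix.SpecialLinearGroup.coe_mul, Matrix.SpecialLinearGroup.coe_mul, Matrix.SpecialLinearGroup.coe_one, hAv]
    ext i j
    fin_cases i <;> fin_cases j <;> simp [Matrix.mul_apply, Fin.sum_univ_three]
    linear_combination h30
  have hTA : T * A = B * T := by
    apply Subtype.ext
    rw [Matrix.SpecialLinearGroup.coe_mul, Matrix.SpecialLinearGroup.coe_mul, hAv, hBv, hTv]
    ext i j
    fin_cases i <;> fin_cases j <;> simp [Matrix.mul_apply, Fin.sum_univ_three]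
  have hAB : A * B = B * A := by
    apply Subtype.ext
    rw [Matrix.SpecialLinearGroup.coe_mul, Matrix.SpecialLinearGroup.coe_mul, hAv, hBv]
    ext i j
    fin_cases i <;> fin_cases j <;> simp [Matrix.mul_apply, Fin.sum_univ_three]
  have hDA : D * A = A * D := by
    apply Subtype.ext
    rw [Matrix.SpecialLinearGroup.coe_mul, Matrix.SpecialLinearGroup.coe_mul, hAv, hDv]
    ext i j
    fin_cases i <;> fin_cases j <;> simp [Matrix.mul_apply, Fin.sum_univ_three]
  have hDB : B * D * B = D := by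
    apply Subtype.ext
    rw [Matrix.SpecialLinearGroup.coe_mul, Matrix.SpecialLinearGroup.coe_mul, hBv, hDv]
    ext i j
    fin_cases i <;> fin_cases j <;> simp [Matrix.mul_apply, Fin.sum_univ_three]
  have hT6 : q (T ^ 6 * A) ≠ q (A * T ^ 6) := by
    intro h
    have h' := e.symm.injective h
    rw [QuotientGroup.mk'_eq_mk'] at h'
    obtain ⟨z, hz, hzz⟩ := h'
    obtain ⟨c, -, hzc⟩ := Matrix.SpecialLinearGroup.mem_center_iff.mp hz
    have hT4 : T ^ 4 = 1 := by
      rw [show 4 = 2 + 2 from rfl, pow_add, sq]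
      apply Subtype.ext
      simp only [Matrix.SpecialLinearGroup.coe_mul, Matrix.SpecialLinearGroup.coe_one, hTv]
      ext i j
      fin_cases i <;> fin_cases j <;> simp [Matrix.mul_apply, Fin.sum_univ_three]
    rw [pow_add T 4 2, hT4, one_mul, sq] at hzz
    have hm := congrArg (fun X : Matrix.SpecialLinearGroup (Fin 3) K => (X : Matrix (Fin 3) (Fin 3) K)) hzz
    simp only [Matrix.SpecialLinearGroup.coe_mul, ← hzc, hAv, hTv] at hm
    have h22 := congrFun (congrFun hm 2) 2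
    have h02 := congrFun (congrFun hm 0) 2
    simp [Matrix.mul_apply, Fin.sum_univ_three, Matrix.diagonal] at h22 h02
    rw [h22] at h02
    exact h2K (by linear_combination -h02)
  obtain ⟨x, hx⟩ := px_surjective (q A)
  obtain ⟨t, ht⟩ := px_surjective (q T)
  obtain ⟨d, hd⟩ := px_surjective (q D)
  have hy : px P (t * x * t⁻¹) = q B := by
    rw [map_mul, map_mul, map_inv, ht, hx, mul_inv_eq_iff_eq_mul, ← map_mul, ← map_mul, hTA]
  have hc := hI.commute_of_inverted (x := x) (y := t * x * t⁻¹) (d := d)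
    (by rw [hx, hy, ← map_mul, ← map_mul, hAB])
    (by rw [hx, hd, mul_inv_eq_iff_eq_mul, ← map_mul, ← map_mul, hDA])
    (by
      rw [hy, hd, mul_inv_eq_iff_eq_mul, eq_inv_mul_iff_mul_eq, ← map_mul, ← map_mul, ← mul_assoc, hDB])
  have h := hI.px_commute_pow_six hp3 Nat.prime_three (by norm_num) hp3 (x := x) (t := t)
    (fun h1 => hT6 (by rw [hx] at h1; rw [map_mul, map_mul, h1, mul_one, one_mul]))
    (by rw [hx, ← map_pow, hA3, map_one]) hc.symm
  rw [hx, ht, ← map_pow, ← map_mul, ← map_mul] at h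
  exact hT6 h

/-- `PX` is not `M₁₁`. -/
theorem not_iso_m11 (hp3 : p ≠ 3) (e : PX P ≃* Cfsg.Agent.H69.M11.standard) : False := by
  classical
  have hmem : ∀ s ∈ ({H69.M11.Eleven.shift, H69.M11.Eleven.triple, H69.M11.Eleven.u1} : Set (Equiv.Perm (Fin 11))),
      s ∈ Cfsg.Agent.H69.M11.standard := fun s hs => Subgroup.subset_closure hs
  let sh : Cfsg.Agent.H69.M11.standard := ⟨_, hmem H69.M11.Eleven.shift (by simp)⟩
  let tr : Cfsg.Agent.H69.M11.standard := ⟨_, hmem H69.M11.Eleven.triple (by simp)⟩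
  let u : Cfsg.Agent.H69.M11.standard := ⟨_, hmem H69.M11.Eleven.u1 (by simp)⟩
  have key : ∀ (r : ℕ) (a b : Cfsg.Agent.H69.M11.standard) (k : ℕ), r.Prime → r ≠ 2 → p ≠ r → a ≠ 1 →
      a ^ r = 1 → b * a * b⁻¹ = a ^ k → b ^ 6 * a = a * b ^ 6 := by
    intro r a b k hr hr2 hpr ha1 har hab
    have h := hI.commute_pow_six_of_pow (a := e.symm a) (b := e.symm b) (k := k) hp3 hr hr2 hpr
      (fun h => ha1 (e.symm.map_eq_one_iff.mp h)) (by rw [← map_pow, har, map_one])
      (by rw [← map_inv, ← map_mul, ← map_mul, hab, map_pow])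
    rw [← map_pow, ← map_mul, ← map_mul] at h
    exact e.symm.injective h
  by_cases hp : p = 11
  · have h1 : H69.M11.Eleven.triple ≠ 1 ∧ H69.M11.Eleven.triple ^ 5 = 1 ∧
        H69.M11.Eleven.u1⁻¹ * H69.M11.Eleven.triple * H69.M11.Eleven.u1⁻¹⁻¹ = H69.M11.Eleven.triple ^ 2 ∧
        H69.M11.Eleven.u1⁻¹ ^ 6 * H69.M11.Eleven.triple ≠ H69.M11.Eleven.triple * H69.M11.Eleven.u1⁻¹ ^ 6 := by
      decide +kernel
    exact h1.2.2.2 (congrArg Subtype.val (key 5 tr u⁻¹ 2 (by norm_num) (by norm_num) (by omega)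
      (fun h => h1.1 (congrArg Subtype.val h)) (Subtype.ext h1.2.1) (Subtype.ext h1.2.2.1)))
  · have h1 : H69.M11.Eleven.shift ≠ 1 ∧ H69.M11.Eleven.shift ^ 11 = 1 ∧
        H69.M11.Eleven.triple * H69.M11.Eleven.shift * H69.M11.Eleven.triple⁻¹ = H69.M11.Eleven.shift ^ 3 ∧
        H69.M11.Eleven.triple ^ 6 * H69.M11.Eleven.shift ≠ H69.M11.Eleven.shift * H69.M11.Eleven.triple ^ 6 := by
      decide +kernel
    exact h1.2.2.2 (congrArg Subtype.val (key 11 sh tr 3 (by norm_num) (by norm_num) hp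
      (fun h => h1.1 (congrArg Subtype.val h)) (Subtype.ext h1.2.1) (Subtype.ext h1.2.2.1)))

/-- The centraliser `GL₂(3)` does not occur. -/
theorem false_of_centralizer_gl (hC : Nonempty (Subgroup.centralizer ({hI.tX} : Set (PX P)) ≃* GL (Fin 2) (ZMod 3))) :
    False := by
  haveI : Fact (Nat.Prime 3) := ⟨Nat.prime_three⟩
  obtain ⟨e⟩ := hC
  have hp3 := hI.ne_three_of_card_48 (by
    rw [Nat.card_congr e.toEquiv, Matrix.card_GL_field]
    simp [Fin.prod_univ_two])
  rcases Cfsg.Agent.S2916.result (hI.toSetting.pResidual_two_eq_top) hI.tX hI.orderOf_tX ⟨e⟩ with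
    ⟨K, iK, iK', hK, ⟨i⟩⟩ | hM
  · exact hI.not_iso_psl_three hp3 hK i
  · obtain ⟨i⟩ : Nonempty (PX P ≃* Cfsg.Spor.M11) := hM
    obtain ⟨j⟩ := Cfsg.Agent.H69.M11.nonempty_standard Cfsg.Agent.Golay.isM11_spor
    exact hI.not_iso_m11 hp3 (i.trans j)

end InvSetting

end Cfsg.Agent.Linear.Mitchell
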