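import Cfsg.Agent.Linear.Mitchell.Centraliser.Recognise
import Cfsg.Agent.Linear.Mitchell.Eigen
import Cfsg.Agent.H30.SmallSimple
import Cfsg.Agent.S0984

/-!
The orders of the four-group branch: no simple group of order 3672, and order 2520 needs `p = 5`.
-/

set_option autoImplicit false

namespace Cfsg.Agent.Linear.Mitchell

open scoped MatrixGroups Matrix
open Cfsg.Geo Matrix

theorem zmod_seventeen_cube : ∀ z : ZMod 17, z ^ 3 = 1 → z = 1 := by decide +kernel

/-- There is no simple group of order 3672. -/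
theorem not_simple_3672 {G : Type*} [Group G] [Finite G] [IsSimpleGroup G] (hG : ¬ IsMulCommutative G)
    (h : Nat.card G = 3672) : False := by
  classical
  haveI : Fact (Nat.Prime 17) := ⟨by norm_num⟩
  haveI : Fact (Nat.Prime 3) := ⟨Nat.prime_three⟩
  obtain ⟨d, hd, hd17, hd1, hidx⟩ := H30.SmallSimple.exists_sylow_number hG 17 (by rw [h]; norm_num)
  have hd18 : d = 18 := by
    have hmem : d ∈ (Nat.divisors 3672).filter (fun m => m % 17 = 1 ∧ 1 < m) := by
      simp only [Finset.mem_filter, Nat.mem_divisors]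
      exact ⟨⟨h ▸ hd, by norm_num⟩, hd17, hd1⟩
    rwa [show (Nat.divisors 3672).filter (fun m => m % 17 = 1 ∧ 1 < m) = {18} by decide +kernel,
      Finset.mem_singleton] at hmem
  subst hd18
  let P : Sylow 17 G := default
  set N := Subgroup.normalizer ((P : Subgroup G) : Set G) with hN
  have hP17 : Nat.card (P : Subgroup G) = 17 := by
    rw [Sylow.card_eq_multiplicity, h, show (3672 : ℕ) = 17 ^ 1 * 216 by norm_num,
      Nat.factorization_mul (by norm_num) (by norm_num), Finsupp.add_apply,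
      Nat.Prime.factorization_pow (by norm_num : Nat.Prime 17), Finsupp.single_eq_same,
      Nat.factorization_eq_zero_of_not_dvd (by norm_num : ¬ 17 ∣ 216)]
    norm_num
  obtain ⟨⟨a, haN⟩, ha⟩ := exists_prime_orderOf_dvd_card' (G := N) 3 (by
    have := N.card_mul_index
    rw [hidx P, h] at this
    have : Nat.card N = 204 := by omega
    rw [this]; norm_num)
  have ha3 : a ^ 3 = 1 := by
    have := pow_orderOf_eq_one (⟨a, haN⟩ : N)
    rw [ha] at this
    exact congrArg Subtype.val this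
  have ha1 : a ≠ 1 := fun h1 => by
    rw [show (⟨a, haN⟩ : N) = 1 from Subtype.ext h1, orderOf_one] at ha
    exact absurd ha (by norm_num)
  obtain ⟨⟨c, hc⟩, hgen⟩ := (isCyclic_of_prime_card hP17).exists_generator
  have hco : orderOf c = 17 := by
    rw [← hP17, ← orderOf_eq_card_of_forall_mem_zpowers hgen, Subgroup.orderOf_mk]
  -- `a` centralises `P`
  have hac : a * c = c * a := by
    obtain ⟨i, hi⟩ := Subgroup.mem_zpowers_iff.mp
      (hgen ⟨a * c * a⁻¹, (Subgroup.mem_normalizer_iff.mp haN c).mp hc⟩)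
    have hi' : c ^ i = a * c * a⁻¹ := congrArg Subtype.val hi
    have h3 : c ^ (i * i * i) = c := by
      have hstep : ∀ k : ℤ, a * c ^ k * a⁻¹ = c ^ (i * k) := fun k => by
        rw [← conj_zpow, ← hi', ← _root_.zpow_mul]
      calc c ^ (i * i * i) = a * (a * (a * c * a⁻¹) * a⁻¹) * a⁻¹ := by
            rw [← hi', hstep, hstep, mul_assoc i i i]
        _ = a ^ 3 * c * (a ^ 3)⁻¹ := by simp [pow_succ, mul_assoc]
        _ = c := by rw [ha3]; group
    have h3' : ((i : ZMod 17)) ^ 3 = 1 := by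
      have h0 : c ^ (i * i * i - 1) = 1 := by rw [_root_.zpow_sub_one, h3, mul_inv_cancel]
      have := (ZMod.intCast_zmod_eq_zero_iff_dvd (i * i * i - 1) 17).mpr
        (hco ▸ orderOf_dvd_iff_zpow_eq_one.mpr h0)
      push_cast at this
      linear_combination this
    have h1 : (i : ZMod 17) = 1 := zmod_seventeen_cube _ h3'
    have h0 : c ^ (i - 1) = 1 := by
      refine orderOf_dvd_iff_zpow_eq_one.mp ?_
      rw [hco]
      exact (ZMod.intCast_zmod_eq_zero_iff_dvd (i - 1) 17).mp (by push_cast; rw [h1, sub_self])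
    rw [_root_.zpow_sub_one, mul_inv_eq_one, hi', mul_inv_eq_iff_eq_mul] at h0
    exact h0
  -- `a` fixes every Sylow subgroup
  have haP : a • P = P := Sylow.smul_eq_iff_mem_normalizer.mpr haN
  have hfree : ∀ (k : ℤ) (Q : Sylow 17 G), Q ≠ P → c ^ k • Q = Q → c ^ k = 1 := by
    intro k Q hQ hk
    have h1 : c ^ k ∈ (P : Subgroup G) ⊓ Subgroup.normalizer ((Q : Subgroup G) : Set G) :=
      ⟨Subgroup.zpow_mem _ hc _, Sylow.smul_eq_iff_mem_normalizer.mp hk⟩
    replace h1 : c ^ k ∈ (P : Subgroup G) ⊓ (Q : Subgroup G) := (P.isPGroup'.inf_normalizer_sylow Q).le h1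
    by_contra hne
    have hsub : (P : Subgroup G) ≤ Q := by
      have hz : Subgroup.zpowers (c ^ k) = (P : Subgroup G) := by
        refine Subgroup.eq_of_le_of_card_ge (Subgroup.zpowers_le.mpr h1.1) ?_
        rw [Nat.card_zpowers, hP17]
        have hd : orderOf (c ^ k) ∣ 17 := hco ▸ orderOf_dvd_of_mem_zpowers ⟨k, rfl⟩
        rcases (Nat.dvd_prime (by norm_num)).mp hd with e | e
        · exact absurd (orderOf_eq_one_iff.mp e) hne
        · exact e.ge
      rw [← hz]
      exact Subgroup.zpowers_le.mpr h1.2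
    exact hQ (Sylow.ext (P.is_maximal' Q.isPGroup' hsub))
  have hsyl : Nat.card (Sylow 17 G) = 18 := (Sylow.card_eq_index_normalizer P).trans (hidx P)
  haveI : Nontrivial (Sylow 17 G) := Finite.one_lt_card_iff_nontrivial.mp (by omega)
  obtain ⟨Q₀, hQ₀⟩ := exists_ne P
  have hcP : ∀ k : ℤ, c ^ k • P = P := fun k =>
    Sylow.smul_eq_iff_mem_normalizer.mpr (Subgroup.le_normalizer (Subgroup.zpow_mem _ hc _))
  have hne : ∀ k : ℤ, c ^ k • Q₀ ≠ P := fun k e => hQ₀ (MulAction.injective (c ^ k) (e.trans (hcP k).symm))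
  let orb : ↥(P : Subgroup G) → {Q : Sylow 17 G // Q ≠ P} := fun z => ⟨(z : G) • Q₀, by
    obtain ⟨k, hk⟩ := Subgroup.mem_zpowers_iff.mp (hgen z)
    rw [← hk]
    exact hne k⟩
  have horb : Function.Bijective orb := by
    refine (Nat.bijective_iff_injective_and_card _).mpr ⟨fun z w e => ?_, ?_⟩
    · obtain ⟨k, rfl⟩ := Subgroup.mem_zpowers_iff.mp (hgen z)
      obtain ⟨l, rfl⟩ := Subgroup.mem_zpowers_iff.mp (hgen w)
      have e' : c ^ k • Q₀ = c ^ l • Q₀ := congrArg Subtype.val e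
      have h0 : c ^ (-l + k) • Q₀ = Q₀ := by
        rw [_root_.zpow_add, mul_smul, e', ← mul_smul, ← _root_.zpow_add, neg_add_cancel, _root_.zpow_zero, one_smul]
      have := hfree _ _ hQ₀ h0
      rw [_root_.zpow_add, _root_.zpow_neg, inv_mul_eq_one] at this
      exact Subtype.ext (by simpa using this.symm)
    · haveI := Fintype.ofFinite (Sylow 17 G)
      rw [hP17, Nat.card_eq_fintype_card, Fintype.card_subtype_compl, Fintype.card_subtype_eq,
        ← Nat.card_eq_fintype_card, hsyl]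
  have hQfix : a • Q₀ = Q₀ := by
    have hne' : a • Q₀ ≠ P := fun e => hQ₀ (MulAction.injective a (e.trans haP.symm))
    obtain ⟨z, hz⟩ := horb.2 ⟨_, hne'⟩
    have hz' : (z : G) • Q₀ = a • Q₀ := congrArg Subtype.val hz
    obtain ⟨j, rfl⟩ := Subgroup.mem_zpowers_iff.mp (hgen z)
    replace hz' : c ^ j • Q₀ = a • Q₀ := by simpa using hz'
    have hcomm : ∀ k : ℤ, a * c ^ k = c ^ k * a := fun k => (Commute.zpow_right hac k).eq
    have h2 : (a * a) • Q₀ = c ^ (j + j) • Q₀ := by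
      rw [mul_smul, ← hz', ← mul_smul, hcomm, mul_smul, ← hz', ← mul_smul, ← _root_.zpow_add]
    have h3 : c ^ (j + j + j) • Q₀ = Q₀ := by
      have : a ^ 3 • Q₀ = Q₀ := by rw [ha3, one_smul]
      rw [pow_succ', sq, mul_smul, h2, ← mul_smul, hcomm, mul_smul, ← hz', ← mul_smul, ← _root_.zpow_add] at this
      exact this
    have h0 := hfree _ _ hQ₀ h3
    have hd : (17 : ℤ) ∣ j := by
      have h' : ((17 : ℕ) : ℤ) ∣ j + j + j := hco ▸ orderOf_dvd_iff_zpow_eq_one.mpr h0
      omega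
    have hcj : c ^ j = 1 := orderOf_dvd_iff_zpow_eq_one.mp (by rw [hco]; exact_mod_cast hd)
    rw [← hz', hcj, one_smul]
  have hall : ∀ Q : Sylow 17 G, a • Q = Q := by
    intro Q
    by_cases hQ : Q = P
    · rw [hQ, haP]
    obtain ⟨z, hz⟩ := horb.2 ⟨Q, hQ⟩
    obtain ⟨j, rfl⟩ := Subgroup.mem_zpowers_iff.mp (hgen z)
    have hQe : c ^ j • Q₀ = Q := by simpa [orb] using congrArg Subtype.val hz
    rw [← hQe, ← mul_smul, (Commute.zpow_right hac j).eq, mul_smul, hQfix]
  let φ := MulAction.toPermHom G (Sylow 17 G)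
  rcases φ.normal_ker.eq_bot_or_eq_top with hk | hk
  · refine ha1 ((φ.ker_eq_bot_iff.mp hk) ?_)
    rw [map_one]
    exact Equiv.ext hall
  · obtain ⟨g, hg⟩ := MulAction.exists_smul_eq G P Q₀
    have : φ g = 1 := MonoidHom.mem_ker.mp (hk ▸ Subgroup.mem_top g)
    have e := congrArg (fun σ : Equiv.Perm (Sylow 17 G) => σ P) this
    exact hQ₀ (hg.symm.trans e)

variable {F : Type*} [Field F] [Finite F] {P : Subgroup (GL (Fin 3) F)}

namespace InvSetting

variable {p : ℕ} (hI : InvSetting p P)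
include hI

theorem projCard_ne_3672 : projCard P ≠ 3672 := fun h => by
  haveI := hI.toSetting.simple
  exact not_simple_3672 (fun hc => hI.toSetting.not_comm hc.is_comm.comm) h

/-- Order 2520 with a centraliser of order 24 needs characteristic five. -/
theorem eq_five_of_card_2520 (hC : Nat.card (Subgroup.centralizer ({hI.tX} : Set (PX P))) = 24)
    (h : projCard P = 2520) : p = 5 := by
  classical
  haveI : Fact p.Prime := ⟨hI.prime⟩
  haveI := hI.char
  haveI := hI.toSetting.simple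
  by_contra hp5
  obtain ⟨e⟩ := Cfsg.Agent.S0984.result (G := PX P) h
  let σ : Equiv.Perm (Fin 7) := Equiv.swap 0 1 * Equiv.swap 1 2 * Equiv.swap 2 3 * Equiv.swap 3 4
  let τ : Equiv.Perm (Fin 7) := Equiv.swap 1 2 * Equiv.swap 2 4 * Equiv.swap 4 3 * Equiv.swap 5 6
  have hσ : σ ∈ alternatingGroup (Fin 7) := Equiv.Perm.mem_alternatingGroup.mpr (by decide +kernel)
  have hτ : τ ∈ alternatingGroup (Fin 7) := Equiv.Perm.mem_alternatingGroup.mpr (by decide +kernel)
  have hrel : τ * σ * τ⁻¹ = σ * σ ∧ σ ^ 5 = 1 ∧ σ ≠ 1 ∧ τ ^ 6 * σ ≠ σ * τ ^ 6 := by decide +kernel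
  clear_value σ τ
  obtain ⟨x, hx⟩ := px_surjective (e.symm ⟨σ, hσ⟩)
  obtain ⟨t, ht⟩ := px_surjective (e.symm ⟨τ, hτ⟩)
  have hsig5 : (⟨σ, hσ⟩ : alternatingGroup (Fin 7)) ^ 5 = 1 := Subtype.ext hrel.2.1
  have hx5 : px P (x ^ 5) = 1 := by rw [map_pow, hx, ← map_pow, hsig5, map_one]
  obtain ⟨c, hc⟩ := px_eq_one.mp hx5
  have hc3 := hI.toSetting.scalar_cube (x ^ 5).2 hc
  have hx15 : (x : GL (Fin 3) F) ^ 15 = 1 := by
    refine Units.ext ?_
    rw [show 15 = 5 * 3 by norm_num, pow_mul, Units.val_pow_eq_pow_val, ← Subgroup.coe_pow, hc, smul_pow, one_pow,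
      hc3, one_smul, Units.val_one]
  have h15 : ((15 : ℕ) : F) ≠ 0 := fun h0 => by
    have hdvd := (CharP.cast_eq_zero_iff F p 15).mp h0
    have hp3 : p ≠ 3 := fun h3 => hI.not_dvd_card (by rw [hI.card_plane, hC, h3]; norm_num)
    rcases (hI.prime.dvd_mul (m := 3) (n := 5)).mp hdvd with h' | h'
    · exact hp3 ((Nat.prime_dvd_prime_iff_eq hI.prime Nat.prime_three).mp h')
    · exact hp5 ((Nat.prime_dvd_prime_iff_eq hI.prime (by norm_num)).mp h')
  have hsc : ∀ c : F, ((x : GL (Fin 3) F) : Matrix (Fin 3) (Fin 3) F) ≠ c • 1 := fun c hc => by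
    have := px_eq_one.mpr ⟨c, hc⟩
    rw [hx, e.symm.map_eq_one_iff] at this
    exact hrel.2.2.1 (congrArg Subtype.val this)
  have hD := distinctEigen_of_odd hI.two hI.hom x.2 (by decide) h15 hx15 hsc
  have hd : px P (t * x * t⁻¹) = px P (x * x) := by
    rw [map_mul, map_mul, map_inv, map_mul, ht, hx, ← map_inv, ← map_mul, ← map_mul, ← map_mul]
    exact congrArg _ (Subtype.ext hrel.1)
  obtain ⟨d, hd⟩ := px_eq_iff.mp hd.symm
  have h6 := hD.commute_pow_six (t := (t : GL (Fin 3) F)) (Units.ext (by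
    simp only [Subgroup.coe_mul, Subgroup.coe_inv] at hd
    rw [Units.val_mul ((t : GL (Fin 3) F) * (x : GL (Fin 3) F) * (t : GL (Fin 3) F)⁻¹), Units.val_mul (x : GL (Fin 3) F)
      ((t : GL (Fin 3) F) * (x : GL (Fin 3) F) * (t : GL (Fin 3) F)⁻¹), hd, Units.val_mul (x : GL (Fin 3) F) x,
      smul_mul_assoc, mul_smul_comm, mul_assoc]))
  have h6' : (px P t) ^ 6 * px P x = px P x * (px P t) ^ 6 := by
    rw [← map_pow, ← map_mul, ← map_mul]
    exact congrArg _ (Subtype.ext (by simpa using h6))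
  rw [ht, hx, ← map_pow, ← map_mul, ← map_mul] at h6'
  exact hrel.2.2.2 (congrArg Subtype.val (e.symm.injective h6'))

end InvSetting

end Cfsg.Agent.Linear.Mitchell
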